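import Groth.Agent.H81.CIGor2
import Groth.Agent.H89.GorReg
import Groth.Agent.H89.ComplFinite
import Groth.Agent.H14.RegularNormal
import Groth.Agent.Lead.RegularLocalization
import Groth.Agent.H54.Dim

/-!
# Hartshorne–Lichtenbaum vanishing: the hypersurface `R₀[b]`

For a regular local ring `R₀`, a domain `R` finite over `R₀` and `b ∈ R`, the subring
`B = R₀[b] ≅ R₀[X]/(minpoly b)` is a Gorenstein local domain, complete if `R₀` is.
-/
set_option autoImplicit false
set_option linter.unusedSectionVars false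
set_option linter.style.haveILetI false
universe u
open CategoryTheory Polynomial

namespace Groth.Agent.H58.HL

open IsLocalRing

section Complete

variable {B : Type u} [CommRing B]

/-- completeness passes from `J` to `K` when `J ≤ K` and `K ^ (e + 1) ≤ J` -/
theorem isAdicComplete_of_le_of_pow_le (J K : Ideal B) (hJK : J ≤ K) (e : ℕ)
    (he : K ^ (e + 1) ≤ J) [hc : IsAdicComplete J B] : IsAdicComplete K B := by
  have hpow : ∀ n : ℕ, K ^ ((e + 1) * n) ≤ J ^ n := by
    intro n
    rw [pow_mul]
    exact Ideal.pow_right_mono he n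
  have hle : ∀ n : ℕ, n ≤ (e + 1) * n := fun n => Nat.le_mul_of_pos_left n (Nat.succ_pos e)
  have hH : IsHausdorff K B := by
    refine ⟨fun x hx => ?_⟩
    apply hc.toIsHausdorff.haus
    intro n
    have h1 := hx ((e + 1) * n)
    rw [SModEq.zero, smul_eq_mul, Ideal.mul_top] at h1 ⊢
    exact hpow n h1
  have hP : IsPrecomplete K B := by
    refine ⟨fun {f} hf => ?_⟩
    have hf' : ∀ {m n : ℕ}, m ≤ n → f m - f n ∈ K ^ m := by
      intro m n hmn
      have := hf hmn
      rw [SModEq.sub_mem, smul_eq_mul, Ideal.mul_top] at this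
      exact this
    obtain ⟨L, hL⟩ := hc.toIsPrecomplete.prec (f := fun j => f ((e + 1) * j)) (by
      intro j j' hjj'
      rw [SModEq.sub_mem, smul_eq_mul, Ideal.mul_top]
      exact hpow j (hf' (Nat.mul_le_mul_left (e + 1) hjj')))
    refine ⟨L, fun n => ?_⟩
    have h2 := hL n
    rw [SModEq.sub_mem, smul_eq_mul, Ideal.mul_top] at h2 ⊢
    have h3 : f ((e + 1) * n) - L ∈ K ^ n := Ideal.pow_right_mono hJK n h2
    have h4 : f n - L = (f n - f ((e + 1) * n)) + (f ((e + 1) * n) - L) := by ring
    rw [h4]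
    exact (K ^ n).add_mem (hf' (hle n)) h3
  exact { toIsHausdorff := hH, toIsPrecomplete := hP }

end Complete

section Adjoin

variable (R₀ R : Type u) [CommRing R₀] [IsNoetherianRing R₀] [CommRing R] [IsDomain R]
  [IsLocalRing R] [Algebra R₀ R] [Module.Finite R₀ R] (b : R)

/-- `R₀[b]` is a finite `R₀`-module -/
theorem finite_adjoin : Module.Finite R₀ (Algebra.adjoin R₀ ({b} : Set R)) := by
  haveI : IsNoetherian R₀ R := isNoetherian_of_isNoetherianRing_of_finite R₀ R
  exact Module.Finite.of_injective (Algebra.adjoin R₀ ({b} : Set R)).val.toLinearMap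
    Subtype.val_injective

theorem isNoetherianRing_adjoin : IsNoetherianRing (Algebra.adjoin R₀ ({b} : Set R)) := by
  haveI := finite_adjoin R₀ R b
  exact isNoetherian_of_tower R₀ (isNoetherian_of_isNoetherianRing_of_finite R₀ _)

theorem finite_over_adjoin : Module.Finite (Algebra.adjoin R₀ ({b} : Set R)) R :=
  Module.Finite.of_restrictScalars_finite R₀ _ R

theorem isLocalRing_adjoin : IsLocalRing (Algebra.adjoin R₀ ({b} : Set R)) := by
  haveI := finite_over_adjoin R₀ R b
  haveI : Algebra.IsIntegral (Algebra.adjoin R₀ ({b} : Set R)) R := Algebra.IsIntegral.of_finite _ _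
  have hinj : Function.Injective (algebraMap (Algebra.adjoin R₀ ({b} : Set R)) R) :=
    Subtype.val_injective
  apply IsLocalRing.of_unique_max_ideal
  refine ⟨(maximalIdeal R).comap (algebraMap (Algebra.adjoin R₀ ({b} : Set R)) R),
    Ideal.isMaximal_comap_of_isIntegral_of_isMaximal _, ?_⟩
  intro M hM
  obtain ⟨Q, hQ, hQM⟩ := Ideal.exists_ideal_over_maximal_of_isIntegral (S := R) M (by
    rw [(RingHom.injective_iff_ker_eq_bot _).mp hinj]
    exact bot_le)
  rw [← hQM, IsLocalRing.eq_maximalIdeal hQ]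

/-- `R₀[b]` is complete when `R₀` is -/
theorem isAdicComplete_adjoin [IsLocalRing R₀] [IsAdicComplete (maximalIdeal R₀) R₀] :
    haveI := isLocalRing_adjoin R₀ R b
    IsAdicComplete (maximalIdeal (Algebra.adjoin R₀ ({b} : Set R)))
      (Algebra.adjoin R₀ ({b} : Set R)) := by
  haveI := isLocalRing_adjoin R₀ R b
  haveI := finite_adjoin R₀ R b
  haveI := isNoetherianRing_adjoin R₀ R b
  set B := Algebra.adjoin R₀ ({b} : Set R) with hB
  haveI : Algebra.IsIntegral R₀ B := Algebra.IsIntegral.of_finite _ _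
  set J : Ideal B := (maximalIdeal R₀).map (algebraMap R₀ B) with hJ
  have h1 : IsAdicComplete (maximalIdeal R₀) B :=
    Groth.Agent.H89.isAdicComplete_of_finite_noeth (maximalIdeal R₀) B
  haveI h2 : IsAdicComplete J B :=
    (IsAdicComplete.map_algebraMap_iff (S := B) (maximalIdeal R₀) B).mpr h1
  -- `m₀ B ≤ m_B`
  have hcomap : (maximalIdeal B).comap (algebraMap R₀ B) = maximalIdeal R₀ :=
    IsLocalRing.eq_maximalIdeal (Ideal.isMaximal_comap_of_isIntegral_of_isMaximal _)
  have hJK : J ≤ maximalIdeal B := by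
    rw [hJ, Ideal.map_le_iff_le_comap, hcomap]
  -- the radical of `J` is the maximal ideal
  have hrad : J.radical = maximalIdeal B := by
    apply le_antisymm
    · exact (Ideal.IsPrime.radical_le_iff inferInstance).mpr hJK
    · rw [Ideal.radical_eq_sInf]
      apply le_sInf
      rintro P ⟨hP, hPprime⟩
      have hc : P.comap (algebraMap R₀ B) = maximalIdeal R₀ := by
        apply le_antisymm
        · exact IsLocalRing.le_maximalIdeal (Ideal.IsPrime.ne_top (Ideal.comap_isPrime _ P))
        · rw [← Ideal.map_le_iff_le_comap]; exact hP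
      haveI : (P.comap (algebraMap R₀ B)).IsMaximal := hc ▸ maximalIdeal.isMaximal R₀
      haveI : P.IsMaximal := Ideal.isMaximal_of_isIntegral_of_isMaximal_comap (R := R₀) P inferInstance
      rw [IsLocalRing.eq_maximalIdeal ‹P.IsMaximal›]
  obtain ⟨n, hn⟩ := Ideal.exists_radical_pow_le_of_fg J (IsNoetherian.noetherian _)
  rw [hrad] at hn
  exact isAdicComplete_of_le_of_pow_le J (maximalIdeal B) hJK n
    ((Ideal.pow_le_pow_right (Nat.le_succ n)).trans hn)

end Adjoin

section Gorenstein

variable (R₀ R : Type u) [CommRing R₀] [IsRegularLocalRing R₀] [CommRing R] [IsDomain R]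
  [Algebra R₀ R] [Module.Finite R₀ R] (b : R)

/-- `R₀[b]` has finite injective dimension `≤ dim R₀[b]` -/
theorem injDim_adjoin (hinj : Function.Injective (algebraMap R₀ R)) (d : ℕ)
    (hd : ringKrullDim (Algebra.adjoin R₀ ({b} : Set R)) ≤ d) :
    HasInjectiveDimensionLT (ModuleCat.of (Algebra.adjoin R₀ ({b} : Set R))
      (Algebra.adjoin R₀ ({b} : Set R))) (d + 1) := by
  haveI : IsDomain R₀ := hinj.isDomain (algebraMap R₀ R)
  haveI : IsIntegrallyClosed R₀ := Groth.Agent.H14.isIntegrallyClosed_of_isRegularLocalRing R₀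
  haveI : FaithfulSMul R₀ R := (faithfulSMul_iff_algebraMap_injective R₀ R).2 hinj
  haveI : Module.IsTorsionFree R₀ R := inferInstance
  have hb : IsIntegral R₀ b := Algebra.IsIntegral.isIntegral b
  let e := minpoly.equivAdjoin hb
  haveI : IsRegularRing R₀ :=
    ⟨fun p _ => Groth.Agent.Lead.RLR.isRegularLocalRing_localization R₀ p⟩
  haveI : LocCoh.IsGorensteinRing R₀[X] := Groth.Agent.H89.GorReg.isGorensteinRing_of_isRegularRing _
  have hne : minpoly R₀ b ≠ 0 := minpoly.ne_zero hb
  have hG := Groth.Agent.H81.CIGor.isGorensteinRing_quotient_span_range (R := R₀[X]) 1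
    ![minpoly R₀ b] (by
      have h1 : Set.range ![minpoly R₀ b] = {minpoly R₀ b} := by simp
      rw [h1, Nat.cast_one]
      exact Ideal.one_le_height_span_singleton_of_mem_nonZeroDivisors
        (mem_nonZeroDivisors_of_ne_zero hne))
  have h1 : Set.range ![minpoly R₀ b] = {minpoly R₀ b} := by simp
  rw [h1] at hG
  haveI : LocCoh.IsGorensteinRing (AdjoinRoot (minpoly R₀ b)) := hG
  have hd' : ringKrullDim (AdjoinRoot (minpoly R₀ b)) ≤ d := by
    rw [ringKrullDim_eq_of_ringEquiv e.toRingEquiv]
    exact hd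
  have h2 := Groth.Agent.H2.GorensteinGlobal.hasInjectiveDimensionLT_of_isGorensteinRing
    (AdjoinRoot (minpoly R₀ b)) d hd'
  exact Groth.Agent.H89.InjDimEquiv.hasInjectiveDimensionLT_of_ringEquiv e.toRingEquiv (d + 1) h2

end Gorenstein

end Groth.Agent.H58.HL
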