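import Groth.Agent.H58.HL.Transfer
import Groth.Agent.H58.HL.Hyper
import Groth.Agent.H47.PSReg
import Groth.Agent.H61.PSComplete
import Groth.Agent.S0581
import Groth.Agent.S11641
import Groth.Agent.S17763

/-!
# Hartshorne–Lichtenbaum vanishing for complete local domains
-/
set_option autoImplicit false
set_option linter.unusedSectionVars false
set_option linter.style.haveILetI false
universe u
open CategoryTheory

namespace Groth.Agent.H58.HL

open Groth.Agent.H58 Groth.Agent.H58.LC IsLocalRing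

/-- the coefficient ring of Cohen's structure theorem is regular and complete -/
theorem exists_regular_complete (Λ : Type u) [CommRing Λ] (h : IsField Λ ∨ CAlg.IsCohenRing Λ)
    (N : ℕ) : ∃ (_ : IsRegularLocalRing (MvPowerSeries (Fin N) Λ)),
      IsAdicComplete (maximalIdeal (MvPowerSeries (Fin N) Λ)) (MvPowerSeries (Fin N) Λ) := by
  rcases h with h | h
  · letI : Field Λ := h.toField
    obtain ⟨hreg, -⟩ := Groth.Agent.H47.PSReg.regular_ps (Λ := Λ) (0 : Λ)
      (by rw [IsLocalRing.maximalIdeal_eq_bot]; simp) 0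
      (by rw [ringKrullDim_eq_zero_of_field]; rfl) (fun _ => rfl) N
    haveI : IsAdicComplete (maximalIdeal Λ) Λ := by
      rw [IsLocalRing.maximalIdeal_eq_bot]
      infer_instance
    exact ⟨hreg, Groth.Agent.H61.ps_isAdicComplete N⟩
  · obtain ⟨hdom, hdvr, hcomp, pp, -, hmax⟩ := h
    obtain ⟨hreg, -⟩ := Groth.Agent.H47.PSReg.regular_ps (Λ := Λ) (pp : Λ) hmax 1
      (by rw [IsDiscreteValuationRing.ringKrullDim_eq_one Λ]; rfl) (fun h => absurd h one_ne_zero) N
    exact ⟨hreg, Groth.Agent.H61.ps_isAdicComplete N⟩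

/-- the key case: a prime of coheight one in a complete local domain -/
theorem subsingleton_H_prime (R : Type u) [CommRing R] [IsDomain R] [IsNoetherianRing R]
    [IsLocalRing R] [IsAdicComplete (maximalIdeal R) R] (k : ℕ)
    (hdim : ringKrullDim R = ((k + 1 : ℕ) : WithBot ℕ∞)) (p : Ideal R) [p.IsPrime]
    (hp : ringKrullDim (R ⧸ p) = 1) : Subsingleton (LocCoh.H p (k + 1) R) := by
  obtain ⟨Λ, hΛ, N, f, hΛ', hinj, hfin, -⟩ := Groth.Agent.S0581.result R
  obtain ⟨hreg, hcomp⟩ := exists_regular_complete Λ hΛ' N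
  letI : Algebra (MvPowerSeries (Fin N) Λ) R := f.toAlgebra
  haveI : Module.Finite (MvPowerSeries (Fin N) Λ) R := hfin
  have hinj' : Function.Injective (algebraMap (MvPowerSeries (Fin N) Λ) R) := hinj
  obtain ⟨b, hb⟩ := Groth.Agent.S11641.result (MvPowerSeries (Fin N) Λ) R hinj' p hp
  haveI := isLocalRing_adjoin (MvPowerSeries (Fin N) Λ) R b
  haveI := isNoetherianRing_adjoin (MvPowerSeries (Fin N) Λ) R b
  haveI := finite_over_adjoin (MvPowerSeries (Fin N) Λ) R b
  haveI := isAdicComplete_adjoin (MvPowerSeries (Fin N) Λ) R b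
  haveI : Algebra.IsIntegral (Algebra.adjoin (MvPowerSeries (Fin N) Λ) ({b} : Set R)) R :=
    Algebra.IsIntegral.of_finite _ _
  have hBinj : Function.Injective
      (algebraMap (Algebra.adjoin (MvPowerSeries (Fin N) Λ) ({b} : Set R)) R) :=
    Subtype.val_injective
  have hdimB : ringKrullDim (Algebra.adjoin (MvPowerSeries (Fin N) Λ) ({b} : Set R)) =
      ((k + 1 : ℕ) : WithBot ℕ∞) :=
    (Groth.Agent.H54.ringKrullDim_eq_of_isIntegral_of_injective hBinj).trans hdim
  have hid := injDim_adjoin (MvPowerSeries (Fin N) Λ) R b hinj' (k + 1) hdimB.le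
  have hq : ringKrullDim ((Algebra.adjoin (MvPowerSeries (Fin N) Λ) ({b} : Set R)) ⧸
      p.under (Algebra.adjoin (MvPowerSeries (Fin N) Λ) ({b} : Set R))) = 1 := by
    rw [← hp]
    exact Groth.Agent.H54.ringKrullDim_eq_of_isIntegral_of_injective
      (R := (Algebra.adjoin (MvPowerSeries (Fin N) Λ) ({b} : Set R)) ⧸
        p.under (Algebra.adjoin (MvPowerSeries (Fin N) Λ) ({b} : Set R))) (S := R ⧸ p)
      (FaithfulSMul.algebraMap_injective _ _)
  have hmap : (p.under (Algebra.adjoin (MvPowerSeries (Fin N) Λ) ({b} : Set R))).map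
      (algebraMap (Algebra.adjoin (MvPowerSeries (Fin N) Λ) ({b} : Set R)) R) =
      Ideal.span ((p : Set R) ∩ (Algebra.adjoin (MvPowerSeries (Fin N) Λ) ({b} : Set R) : Set R)) := by
    unfold Ideal.map
    congr 1
    ext x
    constructor
    · rintro ⟨y, hy, rfl⟩
      exact ⟨hy, y.2⟩
    · rintro ⟨hxp, hxB⟩
      exact ⟨⟨x, hxB⟩, hxp, rfl⟩
  refine subsingleton_H_of_subring k hdimB hid
    (p.under (Algebra.adjoin (MvPowerSeries (Fin N) Λ) ({b} : Set R))) hq p ?_ ?_
  · rw [hmap, hb]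
  · rw [Ideal.map_le_iff_le_comap]

end Groth.Agent.H58.HL
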