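import Groth.Agent.H58.HL.Domain
import Groth.Agent.H58.NV.HLEasy
import Groth.Agent.H2.CdTop
import Groth.Agent.H26.ComplQuot

/-!
# The Hartshorne–Lichtenbaum vanishing theorem (hard direction)
-/
set_option autoImplicit false
set_option linter.unusedSectionVars false
set_option linter.style.haveILetI false
universe u
open CategoryTheory TensorProduct

namespace Groth.Agent.H58.HL

open Groth.Agent.H58 Groth.Agent.H58.LC IsLocalRing

/-- complete local domain, arbitrary ideal of positive dimension -/
theorem subsingleton_H_domain (D : Type u) [CommRing D] [IsDomain D] [IsNoetherianRing D]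
    [IsLocalRing D] [IsAdicComplete (maximalIdeal D) D] (d : ℕ)
    (hdim : ringKrullDim D = (d : WithBot ℕ∞)) (I : Ideal D) (hI : 0 < ringKrullDim (D ⧸ I)) :
    Subsingleton (LocCoh.H I d D) := by
  cases d with
  | zero =>
    exfalso
    have h1 := ringKrullDim_quotient_le I
    rw [hdim] at h1
    exact absurd (lt_of_lt_of_le hI h1) (lt_irrefl _)
  | succ k =>
    exact (Groth.Agent.S17763.result D (k + 1) hdim).mpr
      (fun p _ hp => subsingleton_H_prime D k hdim p hp) I hI

/-- complete local ring -/
theorem subsingleton_H_complete (A : Type u) [CommRing A] [IsNoetherianRing A] [IsLocalRing A]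
    [IsAdicComplete (maximalIdeal A) A] (d : ℕ) (hdim : ringKrullDim A = (d : WithBot ℕ∞))
    (J : Ideal A)
    (h : ∀ P ∈ minimalPrimes A, ringKrullDim (A ⧸ P) = d → 1 ≤ ringKrullDim (A ⧸ (J ⊔ P)))
    (M : Type u) [AddCommGroup M] [Module A M] [hM : Module.Finite A M] :
    Subsingleton (LocCoh.H J d M) := by
  refine IsNoetherianRing.induction_on_isQuotientEquivQuotientPrime A hM
    (motive := fun N _ _ _ => Subsingleton (LocCoh.H J d N)) ?_ ?_ ?_
  · intro N _ _ _ _
    exact subsingleton_H_of_subsingleton J (ModuleCat.of A N) d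
  · intro N _ _ _ p e
    apply subsingleton_H_of_linearEquiv J e.symm d
    haveI := p.2
    have hdimp : ringKrullDim (A ⧸ p.asIdeal) ≤ d := hdim ▸ ringKrullDim_quotient_le p.asIdeal
    by_cases hlt : ringKrullDim (A ⧸ p.asIdeal) < d
    · apply gv J d
      rwa [Module.supportDim_quotient_eq_ringKrullDim]
    have heq : ringKrullDim (A ⧸ p.asIdeal) = d := le_antisymm hdimp (not_lt.mp hlt)
    -- `p` is a minimal prime
    have hmin : p.asIdeal ∈ minimalPrimes A := by
      obtain ⟨q, hq, hqle⟩ := Ideal.exists_minimalPrimes_le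
        (I := (⊥ : Ideal A)) (J := p.asIdeal) bot_le
      rcases eq_or_lt_of_le hqle with h' | h'
      · exact h' ▸ hq
      · exfalso
        haveI : q.IsPrime := hq.1.1
        have h1 := Groth.Agent.H2.CdTop.ringKrullDim_quotient_lt_of_lt q p.asIdeal h' d
          (hdim ▸ ringKrullDim_quotient_le q)
        rw [heq] at h1
        exact lt_irrefl _ h1
    have hpos := h p.asIdeal hmin heq
    -- pass to the complete local domain `A ⧸ p`
    haveI : IsLocalRing (A ⧸ p.asIdeal) :=
      IsLocalRing.of_surjective' (Ideal.Quotient.mk p.asIdeal) Ideal.Quotient.mk_surjective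
    haveI : IsAdicComplete (maximalIdeal (A ⧸ p.asIdeal)) (A ⧸ p.asIdeal) :=
      Groth.Agent.H26.ComplQuot.isAdicComplete_quotient p.asIdeal
    have hpos' : 0 < ringKrullDim ((A ⧸ p.asIdeal) ⧸ J.map (algebraMap A (A ⧸ p.asIdeal))) := by
      have e := DoubleQuot.quotQuotEquivQuotSup p.asIdeal J
      rw [Ideal.Quotient.algebraMap_eq, ringKrullDim_eq_of_ringEquiv e, sup_comm]
      exact lt_of_lt_of_le zero_lt_one hpos
    have h1 := subsingleton_H_domain (A ⧸ p.asIdeal) d heq
      (J.map (algebraMap A (A ⧸ p.asIdeal))) hpos'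
    obtain ⟨φ, -⟩ := indepProp (R := A) (R' := A ⧸ p.asIdeal) J d (A ⧸ p.asIdeal)
    exact φ.symm.toEquiv.subsingleton
  · intro N₁ _ _ _ N₂ _ _ _ N₃ _ _ _ f g hf hg hfg h₁ h₃
    exact subsingleton_mid J (shortExact_of f g hf hg hfg) d h₁ h₃

/-- descent of vanishing from the completion -/
theorem subsingleton_H_of_completion (R : Type u) [CommRing R] [IsNoetherianRing R] [IsLocalRing R]
    (a : Ideal R) (n : ℕ)
    (hvan : haveI : IsNoetherianRing (AdicCompletion (maximalIdeal R) R) :=
        Groth.Agent.H20.isNoetherianRing_adicCompletion (maximalIdeal R)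
      Subsingleton (LocCoh.H (a.map (algebraMap R (AdicCompletion (maximalIdeal R) R))) n
        (AdicCompletion (maximalIdeal R) R))) :
    Subsingleton (LocCoh.H a n R) := by
  haveI : IsNoetherianRing (AdicCompletion (maximalIdeal R) R) :=
    Groth.Agent.H20.isNoetherianRing_adicCompletion (maximalIdeal R)
  haveI : IsLocalHom (algebraMap R (AdicCompletion (maximalIdeal R) R)) := by
    refine ((IsLocalRing.local_hom_TFAE (algebraMap R (AdicCompletion (maximalIdeal R) R))).out
      0 2).mpr ?_
    rw [AdicCompletion.maximalIdeal_eq_map]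
  haveI : Module.FaithfullyFlat R (AdicCompletion (maximalIdeal R) R) :=
    Module.FaithfullyFlat.of_flat_of_isLocalHom
  obtain ⟨e⟩ := fbProp (R' := AdicCompletion (maximalIdeal R) R) a n R
  have h1 : Subsingleton (LocCoh.H (a.map (algebraMap R (AdicCompletion (maximalIdeal R) R))) n
      (AdicCompletion (maximalIdeal R) R ⊗[R] R)) :=
    subsingleton_H_of_linearEquiv _
      (TensorProduct.AlgebraTensorModule.rid R (AdicCompletion (maximalIdeal R) R)
        (AdicCompletion (maximalIdeal R) R)).symm n hvan
  haveI : Subsingleton (AdicCompletion (maximalIdeal R) R ⊗[R] LocCoh.H a n R) :=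
    e.toEquiv.subsingleton
  exact Module.FaithfullyFlat.lTensor_reflects_triviality R
    (AdicCompletion (maximalIdeal R) R) (LocCoh.H a n R)

/-- **Hartshorne–Lichtenbaum vanishing theorem**, hard direction. -/
theorem hartshorne_lichtenbaum (R : Type u) [CommRing R] [IsLocalRing R] [IsNoetherianRing R]
    (I : Ideal R) (d : ℕ) (hd : ringKrullDim R = d)
    (h : ∀ p ∈ minimalPrimes (AdicCompletion (maximalIdeal R) R),
      ringKrullDim (AdicCompletion (maximalIdeal R) R ⧸ p) = d →
        1 ≤ ringKrullDim (AdicCompletion (maximalIdeal R) R ⧸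
          (I.map (algebraMap R (AdicCompletion (maximalIdeal R) R)) ⊔ p)))
    (M : Type u) [AddCommGroup M] [Module R M] (i : ℕ) (hi : d ≤ i) :
    Subsingleton (LocCoh.H I i M) := by
  haveI : IsNoetherianRing (AdicCompletion (maximalIdeal R) R) :=
    Groth.Agent.H20.isNoetherianRing_adicCompletion (maximalIdeal R)
  have hdim : ringKrullDim (AdicCompletion (maximalIdeal R) R) = d :=
    (Groth.Agent.S0547.result R).trans hd
  haveI : IsAdicComplete (maximalIdeal (AdicCompletion (maximalIdeal R) R))
      (AdicCompletion (maximalIdeal R) R) :=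
    AdicCompletion.isAdicComplete_of_fg (maximalIdeal R).fg_of_isNoetherianRing
  have h1 : Subsingleton (LocCoh.H I d R) :=
    subsingleton_H_of_completion R I d
      (subsingleton_H_complete (AdicCompletion (maximalIdeal R) R) d hdim _ h
        (AdicCompletion (maximalIdeal R) R))
  have hgv : ∀ j : ℕ, d < j → Subsingleton (LocCoh.H I j R) := by
    intro j hj
    apply gv I j R
    rw [Module.supportDim_self_eq_ringKrullDim, hd]
    exact_mod_cast hj
  cases d with
  | zero =>
    exfalso
    obtain ⟨q, hq, -⟩ := Ideal.exists_minimalPrimes_le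
      (I := (⊥ : Ideal (AdicCompletion (maximalIdeal R) R)))
      (J := maximalIdeal (AdicCompletion (maximalIdeal R) R)) bot_le
    haveI : q.IsPrime := hq.1.1
    haveI : Nontrivial (AdicCompletion (maximalIdeal R) R ⧸ q) :=
      Ideal.Quotient.nontrivial_iff.2 (Ideal.IsPrime.ne_top inferInstance)
    have hq0 : ringKrullDim (AdicCompletion (maximalIdeal R) R ⧸ q) = ((0 : ℕ) : WithBot ℕ∞) :=
      le_antisymm (hdim ▸ ringKrullDim_quotient_le q) ringKrullDim_nonneg_of_nontrivial
    have h2 := h q hq hq0
    have h3 := ringKrullDim_quotient_le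
      (I.map (algebraMap R (AdicCompletion (maximalIdeal R) R)) ⊔ q)
    rw [hdim] at h3
    have h4 : (1 : WithBot ℕ∞) ≤ ((0 : ℕ) : WithBot ℕ∞) := h2.trans h3
    exact absurd h4 (by simp)
  | succ k =>
    have hcd : LocCoh.CdLE R I k := by
      apply cdLE_of_ring I k
      intro j hj
      rcases Nat.lt_or_ge (k + 1) j with h' | h'
      · exact hgv j h'
      · obtain rfl : j = k + 1 := by omega
        exact h1
    exact hcd M i (by omega)

end Groth.Agent.H58.HL
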