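import Groth.Agent.H58.LCCompare
import Groth.Agent.H9.SymbolicPower
import Groth.Agent.H81.LinkExt

/-!
# Hartshorne–Lichtenbaum vanishing: the Gorenstein core

`B` a complete Noetherian local domain with `id_B B ≤ n`, `q` a prime with `dim B/q = 1`.  Then
`H^n_q(B) = 0`: by Chevalley the symbolic powers of `q` are cofinal with the ordinary ones, and
`Ext^n_B(B/q^(m), B) = 0` by Ischebeck since `B/q^(m)` has positive depth.
-/
set_option autoImplicit false
set_option linter.unusedSectionVars false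
set_option linter.style.haveILetI false
universe u
open CategoryTheory CategoryTheory.Limits Opposite Pointwise

namespace Groth.Agent.H58.HL

open Groth.Agent.H58 Groth.Agent.H58.LC IsLocalRing

variable {B : Type u} [CommRing B] [IsDomain B] [IsLocalRing B] [IsNoetherianRing B]

theorem pow_le_symPow (q : Ideal B) [q.IsPrime] (m : ℕ) : q ^ m ≤ Groth.Agent.H9.symPow q m := by
  unfold Groth.Agent.H9.symPow
  rw [← Ideal.map_le_iff_le_comap, Ideal.map_pow]

/-- elements outside `q` are regular on `B ⧸ q^(m)` -/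
theorem isSMulRegular_quot_symPow (q : Ideal B) [q.IsPrime] (m : ℕ) (x : B) (hx : x ∉ q) :
    IsSMulRegular (B ⧸ Groth.Agent.H9.symPow q m) x := by
  rw [isSMulRegular_iff_right_eq_zero_of_smul]
  intro y hy
  obtain ⟨y, rfl⟩ := Ideal.Quotient.mk_surjective y
  have h1 : x * y ∈ Groth.Agent.H9.symPow q m := by
    rw [← Ideal.Quotient.eq_zero_iff_mem, map_mul]
    exact hy
  rw [Ideal.Quotient.eq_zero_iff_mem]
  unfold Groth.Agent.H9.symPow at h1 ⊢
  rw [Ideal.mem_comap, map_mul] at h1
  rw [Ideal.mem_comap]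
  have hu : IsUnit (algebraMap B (Localization.AtPrime q) x) :=
    IsLocalization.map_units (Localization.AtPrime q) (⟨x, hx⟩ : q.primeCompl)
  exact (Ideal.unit_mul_mem_iff_mem _ hu).mp h1

theorem subsingleton_H_of_injDim (n : ℕ)
    [IsAdicComplete (maximalIdeal B) B]
    (hid : HasInjectiveDimensionLT (ModuleCat.of B B) (n + 1)) (q : Ideal B) [q.IsPrime]
    (hq : ringKrullDim (B ⧸ q) = 1) : Subsingleton (LocCoh.H q n B) := by
  -- an element of the maximal ideal outside `q`
  obtain ⟨x, hxm, hxq⟩ : ∃ x ∈ maximalIdeal B, x ∉ q := by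
    by_contra hcon
    push_neg at hcon
    have hle : maximalIdeal B ≤ q := hcon
    have hqm : q = maximalIdeal B :=
      le_antisymm (IsLocalRing.le_maximalIdeal (Ideal.IsPrime.ne_top inferInstance)) hle
    haveI : q.IsMaximal := hqm ▸ maximalIdeal.isMaximal B
    letI : Field (B ⧸ q) := Ideal.Quotient.field q
    rw [ringKrullDim_eq_zero_of_field] at hq
    exact zero_ne_one hq
  refine ⟨fun a b => ?_⟩
  suffices h : ∀ z : LocCoh.H q n B, z = 0 by rw [h a, h b]
  intro z
  obtain ⟨t, e, rfl⟩ := exists_rep q n (ModuleCat.of B B) z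
  obtain ⟨m, htm, hm⟩ := Groth.Agent.H9.exists_symPow_le_pow q hq t
  rw [ι_eq_zero_iff]
  refine ⟨m, htm, ?_⟩
  let α : Q q m ⟶ ModuleCat.of B (B ⧸ Groth.Agent.H9.symPow q m) :=
    ModuleCat.ofHom (Submodule.mapQ _ _ LinearMap.id (pow_le_symPow q m))
  let β : ModuleCat.of B (B ⧸ Groth.Agent.H9.symPow q m) ⟶ Q q t :=
    ModuleCat.ofHom (Submodule.mapQ _ _ LinearMap.id hm)
  have hfac : Qmap q htm = α ≫ β := by
    apply ModuleCat.hom_ext
    apply LinearMap.ext
    intro y
    obtain ⟨y, rfl⟩ := Submodule.mkQ_surjective _ y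
    rfl
  have hsub : Subsingleton (Abelian.Ext (ModuleCat.of B (B ⧸ Groth.Agent.H9.symPow q m))
      (ModuleCat.of B B) n) := by
    apply Groth.Agent.H81.LinkExt.subsingleton_ext_of_isWeaklyRegular n hid [x]
      (B ⧸ Groth.Agent.H9.symPow q m)
    · rw [RingTheory.Sequence.isWeaklyRegular_singleton_iff]
      exact isSMulRegular_quot_symPow q m x hxq
    · intro r hr
      rw [List.mem_singleton] at hr
      rw [hr]; exact hxm
    · simp
  rw [hfac, ← Abelian.Ext.mk₀_comp_mk₀_assoc,
    Subsingleton.elim ((Abelian.Ext.mk₀ β).comp e (zero_add n)) 0, Abelian.Ext.comp_zero]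

end Groth.Agent.H58.HL
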