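import Groth.Agent.H58.HL.Core
import Groth.Agent.H58.LCCd
import Groth.Agent.H58.LCGV
import Groth.Agent.H58.LCIndep2

/-!
# Hartshorne–Lichtenbaum vanishing: transfer from a Gorenstein subring
-/
set_option autoImplicit false
set_option linter.unusedSectionVars false
set_option linter.style.haveILetI false
universe u
open CategoryTheory CategoryTheory.Limits Opposite Pointwise

namespace Groth.Agent.H58.HL

open Groth.Agent.H58 Groth.Agent.H58.LC IsLocalRing

/-- `cd(B, q) ≤ k` for a complete Gorenstein local domain `B` of dimension `k + 1` and a prime `q`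
with `dim B/q = 1`. -/
theorem cdLE_of_injDim {B : Type u} [CommRing B] [IsDomain B] [IsLocalRing B] [IsNoetherianRing B]
    [IsAdicComplete (maximalIdeal B) B] (k : ℕ) (hdim : ringKrullDim B = ((k + 1 : ℕ) : WithBot ℕ∞))
    (hid : HasInjectiveDimensionLT (ModuleCat.of B B) (k + 1 + 1)) (q : Ideal B) [q.IsPrime]
    (hq : ringKrullDim (B ⧸ q) = 1) : LocCoh.CdLE B q k := by
  apply cdLE_of_ring q k
  intro i hi
  rcases Nat.lt_or_ge (k + 1) i with h | h
  · apply gv q i B
    rw [Module.supportDim_self_eq_ringKrullDim, hdim]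
    exact_mod_cast h
  · obtain rfl : i = k + 1 := by omega
    exact subsingleton_H_of_injDim (k + 1) hid q hq

/-- the transfer statement -/
theorem subsingleton_H_of_subring {B R : Type u} [CommRing B] [IsDomain B] [IsLocalRing B]
    [IsNoetherianRing B] [IsAdicComplete (maximalIdeal B) B] [CommRing R] [IsNoetherianRing R]
    [Algebra B R] (k : ℕ) (hdim : ringKrullDim B = ((k + 1 : ℕ) : WithBot ℕ∞))
    (hid : HasInjectiveDimensionLT (ModuleCat.of B B) (k + 1 + 1)) (q : Ideal B) [q.IsPrime]
    (hq : ringKrullDim (B ⧸ q) = 1) (p : Ideal R)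
    (hp : p ≤ (q.map (algebraMap B R)).radical) (hqp : q.map (algebraMap B R) ≤ p) :
    Subsingleton (LocCoh.H p (k + 1) R) := by
  have hcd := cdLE_of_injDim k hdim hid q hq
  have h1 : Subsingleton (LocCoh.H q (k + 1) R) := hcd R (k + 1) (Nat.lt_succ_self k)
  obtain ⟨φ, -⟩ := indepProp (R := B) (R' := R) q (k + 1) R
  have h2 : Subsingleton (LocCoh.H (q.map (algebraMap B R)) (k + 1) R) :=
    φ.toEquiv.subsingleton
  have h3 := (comparison (q.map (algebraMap B R)) p hqp R (k + 1)).2 (by
    intro P hP hnP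
    exfalso
    apply hnP
    intro x hx
    obtain ⟨n, hn⟩ := hp hx
    exact P.2.mem_of_pow_mem n (hP hn))
  exact h3.subsingleton

end Groth.Agent.H58.HL
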